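import Groth.Agent.Lib.QCoh.LocGenCases
import Groth.Agent.Lib.Cohom.Serre
import Groth.Agent.Lib.Cohom.Exact

/-!
# First cohomology is detected on finite type submodules
-/

set_option autoImplicit false
set_option backward.isDefEq.respectTransparency false
set_option linter.style.haveILetI false

universe u

open CategoryTheory CategoryTheory.Limits AlgebraicGeometry TopologicalSpace Opposite Abelian
open GrothLib.QCoh GrothLib.QCoh.SubData

noncomputable section

namespace GrothLib.FTIdeals9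

variable {X : Scheme.{u}} {F : X.Modules}

/-! ## Sums of submodules -/

theorem rr_mem_iSup {κ : Sort*} (P : κ → SubData F) {U V : X.Opens} (h : V ≤ U)
    {s : Γ(F, U)} (hs : s ∈ ⨆ k, (P k).sec U) : rr h s ∈ ⨆ k, (P k).sec V := by
  refine Submodule.iSup_induction (motive := fun s => rr h s ∈ ⨆ k, (P k).sec V) _ hs
    (fun k x hx => Submodule.mem_iSup_of_mem k ((P k).map_mem _ hx))
    (by rw [map_zero]; exact zero_mem _) fun x y hx hy => by rw [map_add]; exact add_mem hx hy

/-- The sum of a family of submodules. -/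
def sumData {κ : Sort*} (P : κ → SubData F) : SubData F where
  sec T :=
    { carrier := {s | ∀ x ∈ T, ∃ (T' : X.Opens) (h : T' ≤ T), x ∈ T' ∧ rr h s ∈ ⨆ k, (P k).sec T'}
      add_mem' := fun {a b} ha hb x hx => by
        obtain ⟨T₁, h₁, hx₁, m₁⟩ := ha x hx
        obtain ⟨T₂, h₂, hx₂, m₂⟩ := hb x hx
        refine ⟨T₁ ⊓ T₂, inf_le_left.trans h₁, ⟨hx₁, hx₂⟩, ?_⟩
        rw [map_add]
        refine add_mem ?_ ?_
        · rw [← rr_rr h₁ inf_le_left]; exact rr_mem_iSup P inf_le_left m₁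
        · rw [← rr_rr h₂ inf_le_right]; exact rr_mem_iSup P inf_le_right m₂
      zero_mem' := fun x hx => ⟨T, le_rfl, hx, by rw [map_zero]; exact zero_mem _⟩
      smul_mem' := fun r s hs x hx => by
        obtain ⟨T', h, hx', m⟩ := hs x hx
        exact ⟨T', h, hx', by rw [rr_smul]; exact Submodule.smul_mem _ _ m⟩ }
  map_mem {U W} i s hs x hx := by
    obtain ⟨T', h, hx', m⟩ := hs x (i.le hx)
    refine ⟨T' ⊓ W, inf_le_right, ⟨hx', hx⟩, ?_⟩
    change rr _ (rr i.le s) ∈ _
    rw [rr_rr, ← rr_rr h inf_le_left]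
    exact rr_mem_iSup P inf_le_left m
  locality {U} s h x hx := by
    obtain ⟨W, i, hxW, hW⟩ := h x hx
    obtain ⟨T', h₁, hx', m⟩ := hW x hxW
    refine ⟨T', h₁.trans i.le, hx', ?_⟩
    change rr h₁ (rr i.le s) ∈ _ at m
    rwa [rr_rr] at m

theorem le_sumData {κ : Sort*} (P : κ → SubData F) (k : κ) (T : X.Opens) :
    (P k).sec T ≤ (sumData P).sec T := fun _ hs x hx =>
  ⟨T, le_rfl, hx, by rw [rr_self]; exact Submodule.mem_iSup_of_mem k hs⟩

theorem locGen_sumData {κ : Type*} [Finite κ] (P : κ → SubData F) (hP : ∀ k, LocGen (P k) ⊤) :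
    LocGen (sumData P) ⊤ := by
  intro x _
  choose W hW hxW _ S hS hgen using fun k => hP k x trivial
  obtain ⟨_, ⟨Z, hZ, rfl⟩, hxZ, hZle⟩ := X.isBasis_affineOpens.exists_subset_of_mem_open
    (Set.mem_iInter.2 hxW : x ∈ ⋂ k, (W k : Set X)) (isOpen_iInter_of_finite fun k => (W k).isOpen)
  have hZW : ∀ k, Z ≤ W k := fun k => hZle.trans (Set.iInter_subset _ k)
  refine ⟨Z, hZ, hxZ, le_top, ⋃ k, rr (hZW k) '' S k, Set.finite_iUnion fun k => (hS k).image _,
    fun T hT => ?_⟩
  ext s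
  constructor
  · intro hs
    refine (gen _).locality s fun y hy => ?_
    obtain ⟨T', h, hy', m⟩ := hs y hy
    refine ⟨T', homOfLE h, hy', ?_⟩
    change rr h s ∈ _
    refine SetLike.le_def.1 (iSup_le (a := (gen (⋃ k, rr (hZW k) '' S k)).sec T') fun k => ?_) m
    rw [hgen k T' ((h.trans hT).trans (hZW k)), ← gen_image_rr (hZW k) (S k) (h.trans hT)]
    intro t ht z hz hzV
    obtain ⟨T'', h₁, h₂, hz', q⟩ := ht z hz hzV
    exact ⟨T'', h₁, h₂, hz', Submodule.span_mono (Set.image_mono (Set.subset_iUnion _ k)) q⟩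
  · intro hs y hy
    obtain ⟨T', h₁, h₂, hy', q⟩ := hs y hy (hT hy)
    refine ⟨T', h₁, hy', ?_⟩
    refine Submodule.span_le.2 ?_ q
    rintro _ ⟨v, hv, rfl⟩
    obtain ⟨k, w, hw, rfl⟩ := Set.mem_iUnion.1 hv
    refine Submodule.mem_iSup_of_mem k ?_
    rw [hgen k T' (h₂.trans (hZW k)), rr_rr]
    exact mem_gen_of_mem_span _ (Submodule.subset_span ⟨w, hw, rfl⟩)

/-! ## Extension from an affine open -/

/-- Finitely many sections over an affine open lie in a finite type submodule, qcqs case. -/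
theorem exists_locGen_qcqs [F.IsQuasicoherent] [CompactSpace X] [QuasiSeparatedSpace X] {U : X.Opens} (hU : IsAffineOpen U)
    {S : Set Γ(F, U)} (hS : S.Finite) : ∃ Q : SubData F, LocGen Q ⊤ ∧ S ⊆ Q.sec U := by
  have h0 : LocGen (gen S) U := fun x hx => ⟨U, hU, hx, le_rfl, S, hS, fun _ _ => rfl⟩
  obtain ⟨ι, _, V, hVA, -, hcov⟩ := exists_finite_affine_cover (U := (⊤ : X.Opens))
    (by simpa using isCompact_univ)
  let e := Fintype.equivFin ι
  obtain ⟨Q, hQ, hQU⟩ := h0.exists_extension (fun l => V (e.symm l)) (fun l => hVA _) U (by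
      refine eq_top_iff.2 (hcov.trans (le_sup_of_le_right (iSup_le fun j => ?_)))
      exact le_iSup_of_le (f := fun l => V (e.symm l)) (e j) (by simp)) fun l => by
      rw [inf_sup_left, inf_iSup_eq, Opens.coe_sup, Opens.coe_iSup]
      exact (QuasiSeparatedSpace.inter_isCompact _ _ (V _).isOpen (hVA _).isCompact U.isOpen hU.isCompact).union
        (isCompact_iUnion fun m => QuasiSeparatedSpace.inter_isCompact _ _ (V _).isOpen
          (hVA _).isCompact (V _).isOpen (hVA _).isCompact)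
  refine ⟨Q, hQ, fun s hs => ?_⟩
  rw [hQU U le_rfl]
  exact mem_gen_of_mem_span le_rfl (Submodule.subset_span ⟨s, hs, rr_self _ s⟩)

/-- Finitely many sections over compact opens lie in one finite type submodule. -/
theorem exists_locGen_family [F.IsQuasicoherent] [CompactSpace X] [QuasiSeparatedSpace X] {κ : Type u} [Finite κ]
    (T : κ → X.Opens) (hT : ∀ k, IsCompact (T k : Set X)) (g : ∀ k, Γ(F, T k)) :
    ∃ Q : SubData F, LocGen Q ⊤ ∧ ∀ k, g k ∈ Q.sec (T k) := by
  classical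
  choose A inst W hW hWT hcov using fun k => exists_finite_affine_cover (hT k)
  haveI : ∀ k, Finite (A k) := fun k => have := inst k; inferInstance
  choose P hP hgP using fun p : Σ k, A k => exists_locGen_qcqs (hW p.1 p.2)
    (Set.finite_singleton (rr (hWT p.1 p.2) (g p.1)))
  refine ⟨sumData P, locGen_sumData P hP, fun k => (sumData P).locality _ fun x hx => ?_⟩
  obtain ⟨a, ha⟩ := Opens.mem_iSup.1 (hcov k hx)
  exact ⟨W k a, homOfLE (hWT k a), ha, le_sumData P ⟨k, a⟩ _ (hgP ⟨k, a⟩ rfl)⟩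

open Cohom in
/-- On a qcqs scheme, `H¹` of a quasi-coherent module vanishes if it does so for all its
quasi-coherent submodules of finite type. -/
theorem subsingleton_ext_of_ft [F.IsQuasicoherent] [CompactSpace X] [QuasiSeparatedSpace X]
    (h : ∀ (Q : X.Modules) (i : Q ⟶ F), Mono i → Q.IsQuasicoherent → CohB1.IsFT Q →
      Subsingleton (Ext.{u} (freeFun.obj (⊤ : X.Opens)) (Coh.toAb Q) 1)) :
    Subsingleton (Ext.{u} (freeFun.obj (⊤ : X.Opens)) (Coh.toAb F) 1) := by
  classical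
  let A : AbSheaf X := Coh.toAb F
  let J := Injective.under A
  let e : A ⟶ J := Injective.ι A
  let p : J ⟶ cokernel e := cokernel.π e
  have hS : (ShortComplex.mk e p (cokernel.condition e)).ShortExact :=
    { exact := ShortComplex.exact_cokernel e }
  refine subsingleton_of_forall_eq 0 fun x => ?_
  obtain ⟨y, hy⟩ := Ext.covariant_sequence_exact₁ (freeFun.obj (⊤ : X.Opens)) hS x
    (Ext.eq_zero_of_injective _) (show 0 + 1 = 1 from rfl)
  obtain ⟨φ, rfl⟩ := (Ext.mk₀_bijective _ _).surjective y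
  let σ : (cokernel e).obj.obj (op (⊤ : X.Opens)) := sectionsEquiv ⊤ _ φ
  suffices hlift : ∃ τ : J.obj.obj (op (⊤ : X.Opens)), p.hom.app (op ⊤) τ = σ by
    obtain ⟨τ, hτ⟩ := hlift
    have hφ : φ = (sectionsEquiv ⊤ J).symm τ ≫ p := (sectionsEquiv ⊤ _).injective (by
      rw [sectionsEquiv_comp, Equiv.apply_symm_apply]; exact hτ.symm)
    rw [← hy, hφ, ← Ext.mk₀_comp_mk₀, Ext.comp_assoc _ _ _ (add_zero 0) (show 0 + 1 = 1 from rfl) (by simp),
      hS.comp_extClass, Ext.comp_zero]
  have : Presheaf.IsLocallySurjective (Opens.grothendieckTopology X) p.hom :=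
    (TopCat.Sheaf.isLocallySurjective_iff_epi (X := X.carrier) p).mpr inferInstance
  have key : ∀ q : X, ∃ (V : X.Opens), IsAffineOpen V ∧ q ∈ V ∧
      ∃ t : J.obj.obj (op V), p.hom.app (op V) t = (cokernel e).obj.map (homOfLE (le_top (a := V))).op σ := by
    intro q
    obtain ⟨W, i, ⟨t, ht⟩, hqW⟩ :=
      Presheaf.imageSieve_mem (Opens.grothendieckTopology X) p.hom σ q (Opens.mem_top q)
    obtain ⟨V, hV, hqV, hVW⟩ := exists_isAffineOpen_mem_and_subset hqW
    refine ⟨V, hV, hqV, J.obj.map (homOfLE (show V ≤ W from hVW)).op t, ?_⟩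
    rw [← ConcreteCategory.comp_apply, p.hom.naturality, ConcreteCategory.comp_apply, ht,
      ← ConcreteCategory.comp_apply, ← Functor.map_comp]
    rfl
  choose V hV hqV t ht using key
  obtain ⟨s, hs⟩ := isCompact_univ.elim_finite_subcover (fun q => (V q : Set X)) (fun q => (V q).2)
    fun q _ => Set.mem_iUnion.2 ⟨q, hqV q⟩
  have hg : ∀ k : {q // q ∈ s} × {q // q ∈ s}, ∃ g : Γ(F, V k.1.1 ⊓ V k.2.1),
      e.hom.app (op (V k.1.1 ⊓ V k.2.1)) g =
        J.obj.map (homOfLE inf_le_left).op (t k.1.1) - J.obj.map (homOfLE inf_le_right).op (t k.2.1) := by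
    intro k
    refine sections_exact hS _ _ ?_
    show p.hom.app _ _ = 0
    rw [map_sub, ← ConcreteCategory.comp_apply, p.hom.naturality, ConcreteCategory.comp_apply, ht,
      ← ConcreteCategory.comp_apply (J.obj.map (homOfLE inf_le_right).op), p.hom.naturality,
      ConcreteCategory.comp_apply, ht, ← ConcreteCategory.comp_apply, ← ConcreteCategory.comp_apply,
      ← Functor.map_comp, ← Functor.map_comp, sub_eq_zero]
    rfl
  choose g hg using hg
  obtain ⟨Q, hQ, hgQ⟩ := exists_locGen_family (fun k : {q // q ∈ s} × {q // q ∈ s} => V k.1.1 ⊓ V k.2.1)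
    (fun k => QuasiSeparatedSpace.inter_isCompact _ _ (V _).2 (hV _).isCompact (V _).2 (hV _).isCompact) g
  haveI hQq : Q.obj.IsQuasicoherent := hQ.isQuasicoherent
  haveI hmono : Mono Q.ι := (Scheme.Modules.toPresheaf X).mono_of_mono_map
    (@NatTrans.mono_of_mono_app _ _ _ _ _ _ _ fun T ↦
      (AddCommGrpCat.mono_iff_injective _).2 (Q.ι_app_injective T.unop))
  have hH := h Q.obj Q.ι hmono hQq hQ.isFiniteType
  let j : Coh.toAb Q.obj ⟶ A := (QCoh.toAbFun X).map Q.ι
  haveI : Mono j := by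
    have hSS : (ShortComplex.mk Q.ι (cokernel.π Q.ι) (cokernel.condition _)).ShortExact :=
      { exact := ShortComplex.exact_cokernel _ }
    exact (QCoh.toAbFun_map_shortExact _ hSS).mono_f
  let π : J ⟶ cokernel (j ≫ e) := cokernel.π (j ≫ e)
  have hS' : (ShortComplex.mk (j ≫ e) π (cokernel.condition (j ≫ e))).ShortExact :=
    { exact := ShortComplex.exact_cokernel _ }
  have hkill : ∀ (T : X.Opens) (a : Γ(Q.obj, T)),
      π.hom.app (op T) (e.hom.app (op T) (Q.ι.app T a)) = 0 := fun T a =>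
    sections_comp_zero (S := ShortComplex.mk (j ≫ e) π (cokernel.condition (j ≫ e))) T a
  obtain ⟨σ', hσ', -⟩ := TopCat.Sheaf.existsUnique_gluing'
    (cokernel (j ≫ e) : TopCat.Sheaf AddCommGrpCat.{u} X.carrier) (fun k : {q // q ∈ s} => V k.1) ⊤
    (fun k => homOfLE le_top)
    (fun q _ => by
      obtain ⟨z, hz, hqz⟩ := Set.mem_iUnion₂.1 (hs (Set.mem_univ q))
      exact Opens.mem_iSup.2 ⟨⟨z, hz⟩, hqz⟩)
    (fun k => π.hom.app (op (V k.1)) (t k.1)) (fun k l => by
      change (cokernel (j ≫ e)).obj.map (homOfLE inf_le_left).op _ = (cokernel (j ≫ e)).obj.map (homOfLE inf_le_right).op _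
      rw [← ConcreteCategory.comp_apply, ← π.hom.naturality, ConcreteCategory.comp_apply,
        ← ConcreteCategory.comp_apply (π.hom.app (op (V l.1))), ← π.hom.naturality,
        ConcreteCategory.comp_apply, ← sub_eq_zero, ← map_sub, ← hg (k, l)]
      exact hkill _ (Q.lift (g (k, l)) (hgQ (k, l))))
  obtain ⟨τ, hτ⟩ := sections_surjective hS' ⊤ hH σ'
  refine ⟨τ, TopCat.Sheaf.eq_of_locally_eq' (cokernel e : TopCat.Sheaf AddCommGrpCat.{u} X.carrier)
    (fun k : {q // q ∈ s} => V k.1) ⊤ (fun k => homOfLE le_top)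
    (fun q _ => by
      obtain ⟨z, hz, hqz⟩ := Set.mem_iUnion₂.1 (hs (Set.mem_univ q))
      exact Opens.mem_iSup.2 ⟨⟨z, hz⟩, hqz⟩) _ _ fun k => ?_⟩
  change (cokernel e).obj.map (homOfLE le_top).op (p.hom.app (op ⊤) τ) = (cokernel e).obj.map (homOfLE le_top).op σ
  rw [← ht k.1, ← ConcreteCategory.comp_apply (p.hom.app (op ⊤)), ← p.hom.naturality,
    ConcreteCategory.comp_apply, ← sub_eq_zero, ← map_sub]
  obtain ⟨b, hb⟩ := sections_exact hS' (V k.1) (J.obj.map (homOfLE (le_top (a := V k.1))).op τ - t k.1) (by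
    show π.hom.app _ _ = 0
    rw [map_sub, ← ConcreteCategory.comp_apply, π.hom.naturality, ConcreteCategory.comp_apply, hτ,
      sub_eq_zero]
    exact hσ' k)
  rw [← hb]
  exact sections_comp_zero (S := ShortComplex.mk e p (cokernel.condition e)) (V k.1) (Q.ι.app (V k.1) b)

end GrothLib.FTIdeals9
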