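import Groth.Agent.Lib.FTIdeals9.Basic
import Groth.Agent.Lib.ColimCoh.Top
import Mathlib.CategoryTheory.Limits.IsConnected
import Mathlib.Algebra.Homology.DerivedCategory.Ext.ExactSequences

/-!
# A quasi-coherent module is the filtered colimit of its finite type submodules, in abelian sheaves
-/

set_option autoImplicit false
set_option backward.isDefEq.respectTransparency false
set_option linter.style.haveILetI false

universe u

open CategoryTheory CategoryTheory.Limits AlgebraicGeometry TopologicalSpace Opposite Abelian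
open GrothLib.QCoh GrothLib.QCoh.SubData

noncomputable section

namespace GrothLib.FTIdeals9

variable {X : Scheme.{u}} (F : X.Modules)

/-- The finite type submodules. -/
def FTSub : Type u := {Q : SubData F // LocGen Q ⊤}

instance : Preorder (FTSub F) where
  le P Q := ∀ T, P.1.sec T ≤ Q.1.sec T
  le_refl _ _ := le_rfl
  le_trans _ _ _ h h' T := (h T).trans (h' T)

variable [F.IsQuasicoherent] [CompactSpace X] [QuasiSeparatedSpace X]

instance : Nonempty (FTSub F) := by
  obtain ⟨Q, hQ, -⟩ := exists_locGen_family (F := F) (κ := PEmpty.{u + 1}) (fun k => k.elim)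
    (fun k => k.elim) (fun k => k.elim)
  exact ⟨⟨Q, hQ⟩⟩

instance : IsDirectedOrder (FTSub F) where
  directed P Q := ⟨⟨sumData (fun b : ULift.{u} Bool => if b.down then P.1 else Q.1),
      locGen_sumData _ (fun b => by split <;> [exact P.2; exact Q.2])⟩,
    fun T => le_sumData (fun b : ULift.{u} Bool => if b.down then P.1 else Q.1) ⟨true⟩ T,
    fun T => le_sumData (fun b : ULift.{u} Bool => if b.down then P.1 else Q.1) ⟨false⟩ T⟩

variable {F}

/-- The inclusion between two submodules, on abelian sheaves. -/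
def subMap {P Q : SubData F} (h : ∀ T, P.sec T ≤ Q.sec T) : Coh.toAb P.obj ⟶ Coh.toAb Q.obj :=
  ⟨{ app := fun T => AddCommGrpCat.ofHom
        { toFun := fun s : P.sec T.unop => (⟨s.1, h _ s.2⟩ : Q.sec T.unop)
          map_zero' := rfl
          map_add' := fun _ _ => rfl }
     naturality := fun _ _ _ => rfl }⟩

variable (F)

/-- The diagram of finite type submodules. -/
def ftDiag : FTSub F ⥤ Cohom.AbSheaf X where
  obj Q := Coh.toAb Q.1.obj
  map i := subMap (leOfHom i)

/-- The cocone to the module. -/
def ftCocone : Cocone (ftDiag F) where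
  pt := Coh.toAb F
  ι := { app := fun Q => (QCoh.toAbFun X).map Q.1.ι
         naturality := fun P Q i => by ext T s; rfl }

theorem isIso_desc : IsIso (colimit.desc (ftDiag F) (ftCocone F)) := by
  let τ : ftDiag F ⟶ (Functor.const (FTSub F)).obj (Coh.toAb F) := (ftCocone F).ι
  haveI : Mono τ := by
    haveI : ∀ Q, Mono (τ.app Q) := fun Q => by
      haveI : Mono ((τ.app Q).hom) := by
        haveI : ∀ T, Mono ((τ.app Q).hom.app T) := fun T =>
          (AddCommGrpCat.mono_iff_injective _).2 (Q.1.ι_app_injective T.unop)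
        exact NatTrans.mono_of_mono_app _
      exact (sheafToPresheaf _ _).mono_of_mono_map this
    exact NatTrans.mono_of_mono_app τ
  haveI : IsFiltered (FTSub F) := inferInstance
  haveI : IsConnected (FTSub F) := IsFiltered.isConnected _
  let hc := isColimitConstCocone (FTSub F) (Coh.toAb F)
  let e := colimit.isoColimitCocone ⟨_, hc⟩
  have heq : colimit.desc (ftDiag F) (ftCocone F) = colimMap τ ≫ e.hom := by
    refine colimit.hom_ext fun Q => ?_
    rw [colimit.ι_desc, ι_colimMap_assoc, colimit.isoColimitCocone_ι_hom]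
    exact (Category.comp_id _).symm
  haveI : Mono (colimMap τ) := (colim (J := FTSub F) (C := Cohom.AbSheaf X)).map_mono τ
  haveI : Mono (colimit.desc (ftDiag F) (ftCocone F)) := by rw [heq]; infer_instance
  haveI : Epi (colimit.desc (ftDiag F) (ftCocone F)) := by
    refine (TopCat.Sheaf.isLocallySurjective_iff_epi (X := X.carrier) _).mp ⟨fun {U} s x hx => ?_⟩
    obtain ⟨V, hV, hxV, hVU⟩ := exists_isAffineOpen_mem_and_subset (U := U) hx
    obtain ⟨Q, hQ, hs⟩ := exists_locGen_family (F := F) (κ := PUnit.{u + 1}) (fun _ => V)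
      (fun _ => hV.isCompact) (fun _ => (Coh.toAb F).obj.map (homOfLE (show V ≤ U from hVU)).op s)
    refine ⟨V, homOfLE (show V ≤ U from hVU),
      ⟨(colimit.ι (ftDiag F) ⟨Q, hQ⟩).hom.app (op V) (Q.lift _ (hs ⟨⟩)), ?_⟩, hxV⟩
    have h := congrArg (fun f => f.hom.app (op V)) (colimit.ι_desc (ftCocone F) (⟨Q, hQ⟩ : FTSub F))
    exact ConcreteCategory.congr_hom h (Q.lift _ (hs ⟨⟩))
  exact isIso_of_mono_of_epi _

variable {F}

/-- Vanishing of cohomology passes from finite type submodules to the module. -/
theorem subsingleton_HH_of_ft (p : ℕ)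
    (h : ∀ (Q : X.Modules) (i : Q ⟶ F), Mono i → Q.IsQuasicoherent → CohB1.IsFT Q →
      Subsingleton (Coh.HH X Q p)) : Subsingleton (Coh.HH X F p) := by
  haveI := isIso_desc F
  have hc : IsColimit (ftCocone F) :=
    IsColimit.ofPointIso (t := ftCocone F) (colimit.isColimit (ftDiag F)) (i := isIso_desc F)
  have := ColimCoh.preservesColimit_cohomology_of_isQuasiSeparated (X := X.carrier) (W := (⊤ : Opens X))
    (isQuasiSeparated_univ_iff.2 inferInstance) CompactSpace.isCompact_univ (ftDiag F) p
  let G := (Sheaf.cohomologyPresheafFunctor (Opens.grothendieckTopology X.carrier) p).flip.obj (op (⊤ : Opens X))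
  let e : ∀ A : CohTop.Ab X.carrier, CohTop.H A p ≃+ ↑(G.obj A) := fun A =>
    SheafCoh.extPrecompIso (SheafCoh.freeYTerminalIso (J := Opens.grothendieckTopology X.carrier)
      (isTerminalTop (α := Opens X))) A p
  refine @Equiv.subsingleton _ _ (e (ftCocone F).pt).toEquiv (subsingleton_of_forall_eq 0 fun x => ?_)
  obtain ⟨Q, y, hy⟩ := Concrete.isColimit_exists_rep _ (isColimitOfPreserves G hc) x
  haveI : Q.1.obj.IsQuasicoherent := Q.2.isQuasicoherent
  haveI hmono : Mono Q.1.ι := (Scheme.Modules.toPresheaf X).mono_of_mono_map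
    (@NatTrans.mono_of_mono_app _ _ _ _ _ _ _ fun T ↦
      (AddCommGrpCat.mono_iff_injective _).2 (Q.1.ι_app_injective T.unop))
  have : Subsingleton (CohTop.H ((ftDiag F).obj Q) p) := h Q.1.obj Q.1.ι hmono inferInstance Q.2.isFiniteType
  have : Subsingleton ↑(G.obj ((ftDiag F).obj Q)) := (e _).symm.toEquiv.subsingleton
  exact hy.symm.trans ((congrArg (G.map ((ftCocone F).ι.app Q)).hom
    (Subsingleton.elim (α := ↑(G.obj ((ftDiag F).obj Q))) y 0)).trans
      (map_zero (G.map ((ftCocone F).ι.app Q)).hom))

end GrothLib.FTIdeals9
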